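import Groth.Agent.S1606
import Groth.Agent.NefH1.Rel
import Groth.Agent.Lib.NefPull

/-!
# Integral curves: degree `≥ 2g` gives global generation
-/

set_option autoImplicit false
set_option linter.style.haveILetI false
set_option linter.unusedSectionVars false
set_option backward.isDefEq.respectTransparency false
set_option backward.isDefEq.respectTransparency.types false
set_option maxHeartbeats 1000000

universe u

open CategoryTheory CategoryTheory.Limits AlgebraicGeometry TopologicalSpace Opposite

noncomputable section

namespace Groth.Agent.TFGG

open Groth.Agent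

theorem isGloballyGenerated_integral (k : Type u) [Field k] {X : Scheme.{u}} [X.Over (Spec (CommRingCat.of k))]
    [IsIntegral X] [IsProper (X ↘ (Spec (CommRingCat.of k)))] (hdim : topologicalKrullDim X = 1)
    {L : X.Modules} (hL : PicF.IsInvertible L) (hdeg : 2 * (Curv2.genus k X : ℤ) ≤ Curv2.deg k X L 1) :
    Curv2.IsGloballyGenerated L := by
  haveI := CurveCohLib.isNoetherian_of_proper (k := k) (X := X)
  refine S1606.result k X hdim L hL fun J hJr hJc hJd => ?_
  letI : J.subscheme.Over (Spec (CommRingCat.of k)) := ⟨J.subschemeι ≫ (X ↘ (Spec (CommRingCat.of k)))⟩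
  haveI : IsProper (J.subscheme ↘ Spec (CommRingCat.of k)) :=
    inferInstanceAs (IsProper (J.subschemeι ≫ (X ↘ (Spec (CommRingCat.of k)))))
  haveI : Surjective J.subschemeι := by
    refine ⟨Set.range_eq_univ.1 ?_⟩
    by_contra hne
    have hcl := J.subschemeι.isClosedEmbedding.isClosed_range
    have hfin : ∀ z ∈ Set.range J.subschemeι, IsClosed ({z} : Set X) := fun z hz =>
      TFOneX.isClosed_singleton_of_notMem hdim.le fun hg => hne <| by
        have : z = genericPoint X := NormAmpleX.eq_of_specializes_generic hg (genericPoint_specializes z) |>.symm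
        subst this
        exact Set.eq_univ_of_forall fun w => (genericPoint_specializes w).mem_closed hcl hz
    haveI : Finite J.subscheme := by
      haveI := (CurveCohLib.finite_of_closedPoints hcl hfin).to_subtype
      exact Finite.of_injective (fun y => (⟨J.subschemeι y, y, rfl⟩ : Set.range J.subschemeι))
        fun a b h => J.subschemeι.isClosedEmbedding.injective (congrArg (fun w : Set.range J.subschemeι => w.1) h)
    haveI : T1Space J.subscheme := ⟨fun y => by
      rw [show ({y} : Set J.subscheme) = J.subschemeι ⁻¹' {J.subschemeι y} from
        Set.ext fun w => ⟨fun h => congrArg J.subschemeι h, fun h => J.subschemeι.isClosedEmbedding.injective h⟩]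
      exact (hfin _ ⟨y, rfl⟩).preimage J.subschemeι.continuous⟩
    haveI : DiscreteTopology J.subscheme := inferInstance
    exact absurd (hJd ▸ topologicalKrullDim_zero_of_discreteTopology J.subscheme) (by decide)
  haveI : IsIso J.subschemeι := isIso_of_isClosedImmersion_of_surjective _
  let θ : J.subscheme ≅ X := asIso J.subschemeι
  have hd := NefH1.deg_iso k θ rfl hL
  have hg : Curv2.genus k J.subscheme = Curv2.genus k X := by
    obtain ⟨l⟩ := PnCoh.exists_linearEquiv_push k J.subschemeι rfl
      (QCoh.isQCoh_structureModule (X := J.subscheme)) 1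
    haveI : IsIso (ClSub.unitToPush J.subschemeι) := by
      refine Scheme.Modules.Hom.isIso_iff_isIso_app.2 fun U => (ConcreteCategory.isIso_iff_bijective _).2 ?_
      exact (ConcreteCategory.isIso_iff_bijective (J.subschemeι.app U)).1 inferInstance
    exact l.finrank_eq.trans (finrank_congr k (asIso (ClSub.unitToPush J.subschemeι)).symm 1)
  rw [hg]
  exact hdeg.trans (le_of_eq hd)

end Groth.Agent.TFGG
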