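import Groth.Agent.TFGG.Quot
import Groth.Agent.Lib.GenLocusGG
import Groth.Agent.InvX.GenEpi
import Groth.Agent.H9Misc.HypCoh

/-!
# Degree `≥ 2g` on every subcurve gives global generation
-/

set_option autoImplicit false
set_option linter.style.haveILetI false
set_option linter.unusedSectionVars false
set_option linter.unusedVariables false
set_option backward.isDefEq.respectTransparency false
set_option backward.isDefEq.respectTransparency.types false
set_option maxHeartbeats 1000000
set_option synthInstance.maxHeartbeats 200000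

universe u

open CategoryTheory CategoryTheory.Limits AlgebraicGeometry TopologicalSpace Opposite
open Groth.Agent.PnCoh.Finite (mapLin)

noncomputable section

namespace Groth.Agent.TFGG

open Groth.Agent TFOneX

variable (k : Type u) [Field k] {X : Scheme.{u}} [X.Over (Spec (CommRingCat.of k))]
  [IsProper (X ↘ Spec (CommRingCat.of k))] [AlgebraicGeometry.IsReduced X] [AlgebraicGeometry.IsNoetherian X]
  {L : X.Modules}

theorem epi_of_sm {A B : X.Modules} (φ : A ⟶ B) (h : ∀ x, Function.Surjective (sm φ x)) : Epi φ := by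
  let S := ShortComplex.mk φ (0 : B ⟶ B) comp_zero
  refine (ShortComplex.exact_iff_epi S rfl).1 ((KFlatLib.exact_iff_stalk S).2 fun x => ?_)
  haveI : Epi (S.map (DerSch.stalkFunctor X x)).f := (ModuleCat.epi_iff_surjective _).2 (h x)
  exact (ShortComplex.exact_iff_epi _ (show (DerSch.stalkFunctor X x).map (0 : B ⟶ B) = 0 from
    Functor.map_zero _ _ _)).2 inferInstance

/-- Surjectivity on the middle of kernels. -/
theorem surjective_sm_lift {A B C : X.Modules} (q : A ⟶ B) [Epi q] (p : A ⟶ C) (p' : B ⟶ C)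
    (h : q ≫ p' = p) :
    Epi (kernel.lift p' (kernel.ι p ≫ q) (by rw [Category.assoc, h, kernel.condition]) :
      kernel p ⟶ kernel p') := by
  refine epi_of_sm _ fun x b => ?_
  obtain ⟨a, ha⟩ := surjective_sm q x (sm (kernel.ι p') x b)
  have h0 : sm p x a = 0 := by rw [← h, sm_comp, ha, ← sm_comp, kernel.condition, sm_zero]
  obtain ⟨c, hc⟩ := ((ShortComplex.moduleCat_exact_iff _).1
    ((ShortComplex.exact_of_f_is_kernel (ShortComplex.mk (kernel.ι p) p (kernel.condition p))
      (kernelIsKernel _)).map (DerSch.stalkFunctor X x))) a h0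
  refine ⟨c, injective_sm (kernel.ι p') x ?_⟩
  rw [← sm_comp, kernel.lift_ι, sm_comp]
  exact (congrArg (sm q x) hc).trans ha

theorem shortExact_kernel {A B : X.Modules} (q : A ⟶ B) [Epi q] :
    (ShortComplex.mk (kernel.ι q) q (kernel.condition q)).ShortExact :=
  { exact := ShortComplex.exact_of_f_is_kernel _ (kernelIsKernel q)
    epi_g := inferInstanceAs (Epi q) }

theorem injective_mapLin_kernel {A B : X.Modules} (q : A ⟶ B) [Epi q] :
    Function.Injective (mapLin k (kernel.ι q) 0) := by
  have h := CurveCohLib.mapLin_f_zero_injective k (shortExact_kernel q)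
  exact h

variable (h1 : topologicalKrullDim X ≤ 1) (hngen : ∀ η ∈ gen X, ¬ IsClosed ({η} : Set X))
  (hL : PicF.IsInvertible L)

/-- The genus of the reduced curve on the closure. -/
def gT (U : Set X) : ℕ := Module.finrank k (Coh.HH X (P (clo U) isClosed_closure) 1)

include h1 in
theorem finrank_ann_le {U : Set X} (hU : U ⊆ gen X) :
    Module.finrank k (ann k U) ≤ gT k U := by
  have hfin := finite_gen k (X := X)
  let T := clo U
  let u := uP T isClosed_closure
  have hPc := isCoh_P T isClosed_closure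
  haveI := CurveCohLib.finite_HH (k := k) (QCoh.isCoh_structureModule' (X := X)) 1
  haveI := CurveCohLib.finite_HH (k := k) hPc 1
  have hle : LinearMap.ker (mapLin k u 1) ≤ R k 1 (Coh.structureModule X) U := by
    rw [CurveCohLib.ker_mapLin_g k (shortExact_kernel u) 1]
    exact le_R k (QCoh.isCoh_kernel QCoh.isCoh_structureModule' hPc u) fun η hη a =>
      (bijective_at isRkOne_structure u (hU hη) (mem_support_P isClosed_closure (hU hη) (subset_closure hη))).1
        (by rw [← sm_comp, kernel.condition, sm_zero, map_zero])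
  have h2 := Submodule.finrank_mono (Submodule.dualAnnihilator_anti hle)
  have h3 := Subspace.finrank_add_finrank_dualAnnihilator_eq (LinearMap.ker (mapLin k u 1))
  have h4 := (mapLin k u 1).finrank_range_add_finrank_ker
  have h5 := Submodule.finrank_le (LinearMap.range (mapLin k u 1))
  show Module.finrank k (ann k U) ≤ Module.finrank k (Coh.HH X (P T isClosed_closure) 1)
  unfold ann
  omega

variable (hdeg : ∀ U : Set X, U ⊆ gen X → U.Nonempty → _root_.IsPreconnected (clo U) →
    2 * (gT k U : ℤ) ≤ Curv2.euler k X (Q L (clo U) isClosed_closure) -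
      Curv2.euler k X (P (clo U) isClosed_closure))

include k in
theorem h0_P_pos {U : Set X} (hne : U.Nonempty) :
    0 < Module.finrank k (Coh.HH X (P (clo U) isClosed_closure) 0) := by
  haveI := CurveCohLib.finite_HH (k := k) (isCoh_P (clo U) isClosed_closure) 0
  obtain ⟨η, hη⟩ := hne
  haveI : Nonempty (VecSt.subsch X (clo U) isClosed_closure) := by
    obtain ⟨y, -⟩ := (range_subschι (clo U) isClosed_closure).symm.subset (subset_closure hη)
    exact ⟨y⟩
  haveI : Nonempty ((VecSt.subschι X (clo U) isClosed_closure) ⁻¹ᵁ (⊤ : X.Opens) :) :=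
    ⟨⟨Classical.arbitrary _, trivial⟩⟩
  haveI : Nontrivial Γ(P (clo U) isClosed_closure, ⊤) :=
    inferInstanceAs (Nontrivial Γ(VecSt.subsch X (clo U) isClosed_closure, _))
  haveI : Nontrivial ↑((Coh.toAb (P (clo U) isClosed_closure)).obj.obj (op ⊤)) :=
    (inferInstance : Nontrivial Γ(P (clo U) isClosed_closure, ⊤))
  haveI : Nontrivial (Coh.HH X (P (clo U) isClosed_closure) 0) :=
    (Sheaf.H.equiv₀ (Coh.toAb (P (clo U) isClosed_closure)) isTerminalTop).toEquiv.nontrivial
  exact Module.finrank_pos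

include h1 hL hdeg in
theorem lt_h0 {U : Set X} (hU : U ⊆ gen X) (hne : U.Nonempty) (hc : _root_.IsPreconnected (clo U)) :
    gT k U < Module.finrank k (Coh.HH X (Q L (clo U) isClosed_closure) 0) := by
  have h := hdeg U hU hne hc
  have hp := h0_P_pos k hne
  rw [NefH1.euler_eq k h1 (isCoh_Q hL _ _).1, NefH1.euler_eq k h1 (isCoh_P (clo U) isClosed_closure).1] at h
  unfold gT at h ⊢
  omega

theorem exists_split {U : Set X} (hUf : U.Finite) (h : ¬ _root_.IsPreconnected (clo U)) :
    ∃ U₁ U₂ : Set X, U₁ ⊂ U ∧ U₂ ⊂ U ∧ U₁ ∪ U₂ = U ∧ Disjoint (clo U₁) (clo U₂) ∧ U₁.Nonempty ∧ U₂.Nonempty := by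
  rw [_root_.isPreconnected_closed_iff] at h
  push Not at h
  obtain ⟨A, B, hA, hB, hsub, hAne, hBne, hAB⟩ := h
  have hdec : ∀ η ∈ U, closure ({η} : Set X) ⊆ A ∨ closure ({η} : Set X) ⊆ B := fun η hη => by
    rcases hsub (subset_closure hη) with h | h
    exacts [Or.inl (closure_minimal (Set.singleton_subset_iff.2 h) hA),
      Or.inr (closure_minimal (Set.singleton_subset_iff.2 h) hB)]
  have hne : ∀ C : Set X, IsClosed C → (clo U ∩ C).Nonempty →
      ∃ η ∈ U, ∃ z ∈ clo U ∩ C, η ⤳ z := fun C _ ⟨z, hz⟩ =>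
    let ⟨η, hη, hs⟩ := exists_gen_clo hUf hz.1
    ⟨η, hη, z, hz, hs⟩
  have hdis : ∀ η ∈ U, η ∈ A → η ∈ B → False := fun η hη ha hb =>
    Set.eq_empty_iff_forall_notMem.1 hAB η ⟨subset_closure hη, ha, hb⟩
  obtain ⟨a, ha, za, hza, hsa⟩ := hne A hA hAne
  obtain ⟨b, hb, zb, hzb, hsb⟩ := hne B hB hBne
  have haA : a ∈ A := by
    rcases hsub (subset_closure ha) with h | h
    · exact h
    · exact (Set.eq_empty_iff_forall_notMem.1 hAB za ⟨hza.1, hza.2, hsa.mem_closed hB h⟩).elim
  have hbB : b ∈ B := by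
    rcases hsub (subset_closure hb) with h | h
    · exact (Set.eq_empty_iff_forall_notMem.1 hAB zb ⟨hzb.1, hsb.mem_closed hA h, hzb.2⟩).elim
    · exact h
  refine ⟨U ∩ A, U ∩ B, ⟨Set.inter_subset_left, fun h => hdis b hb (h hb).2 hbB⟩,
    ⟨Set.inter_subset_left, fun h => hdis a ha haA (h ha).2⟩,
    Set.Subset.antisymm (Set.union_subset Set.inter_subset_left Set.inter_subset_left) (fun η hη =>
      (hsub (subset_closure hη)).imp (fun h => ⟨hη, h⟩) fun h => ⟨hη, h⟩), ?_,
    ⟨a, ha, haA⟩, ⟨b, hb, hbB⟩⟩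
  rw [Set.disjoint_left]
  exact fun z h₁ h₂ => Set.eq_empty_iff_forall_notMem.1 hAB z
    ⟨closure_mono Set.inter_subset_left h₁, closure_minimal Set.inter_subset_right hA h₁,
      closure_minimal Set.inter_subset_right hB h₂⟩

include hL in
/-- On a disconnected union the kernel of one restriction is the other restriction. -/
theorem isIso_cross {T A B : Set X} (hT : IsClosed T) (hA : IsClosed A) (hB : IsClosed B) (hAT : A ⊆ T)
    (hBT : B ⊆ T) (hcov : T ⊆ A ∪ B) (hdis : Disjoint A B)
    (hcomp : ∀ x ∈ T, ∃ η ∈ gen X, η ∈ T ∧ η ⤳ x)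
    {rA : Q L T hT ⟶ Q L A hA} (ha : qQ L T hT ≫ rA = qQ L A hA)
    {rB : Q L T hT ⟶ Q L B hB} (hb : qQ L T hT ≫ rB = qQ L B hB) [Epi rA] [Epi rB] :
    IsIso (kernel.ι rA ≫ rB) := by
  haveI : Mono (kernel.ι rA ≫ rB) := Preadditive.mono_of_cancel_zero _ fun {Z} g hg => by
    rw [← cancel_mono (kernel.ι rA), zero_comp]
    refine hom_eq_zero (isCoh_Q hL T hT).1 (isTorsionFree_Q hL hT hcomp) _ fun η hη hs c => ?_
    have hηT : η ∈ T := by_contra fun h => notMem_support_Q hL hT h hs
    rcases hcov hηT with h | h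
    · refine injective_restrict hL hA hT hAT ha hη h ?_
      rw [← sm_comp, Category.assoc, kernel.condition, comp_zero, sm_zero, map_zero]
    · refine injective_restrict hL hB hT hBT hb hη h ?_
      rw [← sm_comp, Category.assoc, hg, sm_zero, map_zero]
  haveI : Epi (kernel.ι rA ≫ rB) := epi_of_sm _ fun x b => by
    by_cases hxB : x ∈ B
    · obtain ⟨a, rfl⟩ := surjective_sm rB x b
      have h0 : sm rA x a = 0 :=
        eq_zero_of_notMem (notMem_support_Q hL hA (fun h => Set.disjoint_left.1 hdis h hxB)) _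
      obtain ⟨c, hc⟩ := ((ShortComplex.moduleCat_exact_iff _).1
        ((ShortComplex.exact_of_f_is_kernel (ShortComplex.mk (kernel.ι rA) rA (kernel.condition rA))
          (kernelIsKernel _)).map (DerSch.stalkFunctor X x))) a h0
      exact ⟨c, (sm_comp _ _ _ c).trans (congrArg (sm rB x) hc)⟩
    · exact ⟨0, (map_zero (sm (kernel.ι rA ≫ rB) x)).trans (eq_zero_of_notMem (notMem_support_Q hL hB hxB) b).symm⟩
  exact isIso_of_mono_of_epi _

include h1 hL in
theorem hfull_aux {U : Set X} (hU : U ⊆ gen X) {G : X.Modules} (hG : Coh.IsCoh G)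
    {η : X} (hR : R k 1 G (gen X \ {η}) = ⊥) {M : X.Modules} (hM : Coh.IsCoh M) (q : G ⟶ M)
    (hz : ∀ z ∈ gen X, z ∉ U → z ∉ CohB1.support G)
    (hinj : ∀ z ∈ U, z ≠ η → Function.Injective (sm q z)) :
    ∀ y, mapLin k (kernel.ι q) 1 y = 0 := fun y => by
  have h := le_R k (n := 1) (κ := kernel.ι q) (U := gen X \ {η}) (QCoh.isCoh_kernel hG hM q) (fun z hz' a => by
    by_cases hzU : z ∈ U
    · exact hinj z hzU hz'.2 (by rw [← sm_comp, kernel.condition, sm_zero, map_zero])
    · exact eq_zero_of_notMem (hz z hz'.1 hzU) _) ⟨y, rfl⟩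
  rwa [hR, Submodule.mem_bot] at h

include h1 hL hdeg in
/-- No first cohomology on every union of components. -/
theorem subsingleton_H1_Q (n : ℕ) : ∀ U : Set X, U ⊆ gen X → U.ncard ≤ n →
    Subsingleton (Coh.HH X (Q L (clo U) isClosed_closure) 1) := by
  have hfin := finite_gen k (X := X)
  induction n with
  | zero =>
    intro U hU hn
    refine subsingleton_HH_of_gen k h1 (isCoh_Q hL _ _) (fun η hη => notMem_support_Q hL _ fun h => ?_) 0
    obtain rfl := (Set.ncard_eq_zero (hfin.subset hU)).1 (Nat.le_zero.1 hn)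
    simp [clo] at h
  | succ n ih =>
    intro U hU hn
    have hUf := hfin.subset hU
    by_cases hne : U.Nonempty
    swap
    · refine ih U hU ?_
      rw [Set.not_nonempty_iff_eq_empty.1 hne, Set.ncard_empty]
      exact Nat.zero_le _
    let T := clo U
    have hTc : IsClosed T := isClosed_closure
    have hsmall : ∀ V, V ⊂ U → Subsingleton (Coh.HH X (Q L (clo V) isClosed_closure) 1) := fun V hV =>
      ih V (hV.1.trans hU) (by have := Set.ncard_lt_ncard hV hUf; omega)
    by_cases hc : _root_.IsPreconnected T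
    swap
    · obtain ⟨U₁, U₂, h₁, h₂, hun, hd, -, -⟩ := exists_split hUf hc
      obtain ⟨rA, ha, _⟩ := exists_restrict (L := L) (S := clo U₁) isClosed_closure hTc (closure_mono h₁.1)
      obtain ⟨rB, hb, _⟩ := exists_restrict (L := L) (S := clo U₂) isClosed_closure hTc (closure_mono h₂.1)
      haveI := isIso_cross hL hTc isClosed_closure isClosed_closure (closure_mono h₁.1) (closure_mono h₂.1)
        (by rw [← closure_union, hun]) hd (hcomp_clo hUf hU) ha hb
      have hK := QCoh.subsingleton_HH_of_iso (asIso (kernel.ι rA ≫ rB)).symm 1 (hsmall U₂ h₂)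
      exact QCoh.subsingleton_HH_X₂ (shortExact_kernel rA) 1 hK (hsmall U₁ h₁)
    by_contra hne1
    have hGc := isCoh_Q hL T hTc
    have hfull : ∀ η ∈ U, R k 1 (Q L T hTc) (gen X \ {η}) ≠ ⊥ := fun η hη hR => hne1 <| by
      obtain ⟨r, hr, _⟩ := exists_restrict (L := L) (S := clo (U \ {η})) isClosed_closure hTc
        (closure_mono Set.sdiff_subset)
      have hy := hfull_aux k h1 hL hU hGc hR (isCoh_Q hL (clo (U \ {η})) isClosed_closure) r
        (fun z hz hzU => notMem_support_Q hL hTc fun h => hzU (gen_mem_clo hUf hU hz h))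
        (fun z hz hzη => injective_restrict hL isClosed_closure hTc (closure_mono Set.sdiff_subset) hr (hU hz)
          (subset_closure ⟨hz, hzη⟩))
      have hT' := hsmall (U \ {η}) ⟨Set.sdiff_subset, fun h => (h hη).2 rfl⟩
      refine subsingleton_of_forall_eq 0 fun x => ?_
      have hx : x ∈ LinearMap.ker (mapLin k r 1) := LinearMap.mem_ker.2 (hT'.elim _ _)
      rw [CurveCohLib.ker_mapLin_g k (shortExact_kernel r) 1] at hx
      obtain ⟨y, rfl⟩ := hx
      exact hy y
    have hb := (finrank_h0_le k h1 hGc (hrk_of_restrict hL hTc (𝟙 _) fun η _ a => ⟨a, sm_id η a⟩)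
      (cuts_of_restrict hL hfin hGc hTc (𝟙 _)) (cuts_structure hfin)
      (htf_of_restrict hL hTc (hcomp_clo hUf hU) (𝟙 _)) hU hfull
      (fun z hz hzU => notMem_support_Q hL hTc fun h => hzU (gen_mem_clo hUf hU hz h))).trans
      (finrank_ann_le k h1 hU)
    have := lt_h0 k h1 hL hdeg hU hne hc
    exact absurd hb (not_le.2 this)

theorem finrank_kernel {A B : X.Modules} (p : A ⟶ B) [Epi p] (hp0 : mapLin k p 0 = 0) :
    Module.finrank k (Coh.HH X (kernel p) 0) = Module.finrank k (Coh.HH X A 0) := by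
  have hi := injective_mapLin_kernel k p
  have hsur : Function.Surjective (mapLin k (kernel.ι p) 0) := fun t => by
    have ht : t ∈ LinearMap.ker (mapLin k p 0) := by
      rw [LinearMap.mem_ker]
      exact LinearMap.congr_fun hp0 t
    rw [CurveCohLib.ker_mapLin_g k (shortExact_kernel p) 0] at ht
    obtain ⟨s, hs⟩ := ht
    exact ⟨s, hs⟩
  exact (LinearEquiv.ofBijective _ ⟨hi, hsur⟩).finrank_eq

theorem finrank_congr {A B : X.Modules} (e : A ≅ B) (n : ℕ) :
    Module.finrank k (Coh.HH X A n) = Module.finrank k (Coh.HH X B n) :=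
  (LinearEquiv.ofBijective (mapLin k e.hom n) (Function.bijective_iff_has_inverse.2
    ⟨mapLin k e.inv n, fun y => by rw [FFun.mapLin_comp, e.hom_inv_id, CurveDuality.mapLin_id],
      fun y => by rw [FFun.mapLin_comp, e.inv_hom_id, CurveDuality.mapLin_id]⟩)).finrank_eq

include h1 hL in
/-- With no class on the component, sections vanish on the smaller union too. -/
theorem section_descends {U : Set X} (hU : U ⊆ gen X) {A B C : X.Modules} (hA : Coh.IsCoh A)
    (hB : Coh.IsCoh B) (hC : Coh.IsCoh C) (hA1 : Subsingleton (Coh.HH X A 1)) (r : A ⟶ B) [Epi r]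
    (p : A ⟶ C) [Epi p] (p' : B ⟶ C) [Epi p'] (hfac : r ≫ p' = p) (hp0 : mapLin k p 0 = 0) {η : X}
    (hR : R k 1 (kernel p) (gen X \ {η}) = ⊥) (hz : ∀ z ∈ gen X, z ∉ U → z ∉ CohB1.support A)
    (hinj : ∀ z ∈ U, z ≠ η → Function.Injective (sm r z)) : mapLin k p' 0 = 0 := by
  let g : kernel p ⟶ kernel p' := kernel.lift p' (kernel.ι p ≫ r)
    (by rw [Category.assoc, hfac, kernel.condition])
  haveI : Epi g := surjective_sm_lift r p p' hfac
  have hG : Coh.IsCoh (kernel p) := QCoh.isCoh_kernel hA hC p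
  have hG' : Coh.IsCoh (kernel p') := QCoh.isCoh_kernel hB hC p'
  have hy := hfull_aux k h1 hL hU hG hR hG' g
    (fun z hz' hzU h => hz z hz' hzU (support_subset_of_mono (kernel.ι p) h))
    (fun z hzU hzη a b hab => by
      have := congrArg (sm (kernel.ι p') z) hab
      rw [← sm_comp, ← sm_comp, kernel.lift_ι, sm_comp, sm_comp] at this
      exact injective_sm (kernel.ι p) z (hinj z hzU hzη this))
  let e : kernel g ≅ kernel r :=
    { hom := kernel.lift r (kernel.ι g ≫ kernel.ι p)
        (by rw [Category.assoc, show kernel.ι p ≫ r = g ≫ kernel.ι p' from (kernel.lift_ι _ _ _).symm,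
          ← Category.assoc, kernel.condition, zero_comp])
      inv := kernel.lift g
        (kernel.lift p (kernel.ι r) (by rw [← hfac, ← Category.assoc, kernel.condition, zero_comp]))
        (by rw [← cancel_mono (kernel.ι p'), Category.assoc, kernel.lift_ι, ← Category.assoc,
          kernel.lift_ι, kernel.condition, zero_comp])
      hom_inv_id := by rw [← cancel_mono (kernel.ι g), ← cancel_mono (kernel.ι p)]; simp
      inv_hom_id := by rw [← cancel_mono (kernel.ι r)]; simp }
  have e1 : Module.finrank k (Coh.HH X (kernel p') 0) + Module.finrank k (Coh.HH X (kernel g) 0) =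
      Module.finrank k (Coh.HH X (kernel p) 0) + Module.finrank k (Coh.HH X (kernel g) 1) := by
    have d : LinearMap.range (PnCoh.Finite.deltaLin k (shortExact_kernel g) 0) = ⊤ := top_le_iff.1 fun y _ => by
      rw [← CurveCohLib.ker_mapLin_f_succ k (shortExact_kernel g) 0]
      exact LinearMap.mem_ker.2 (hy y)
    refine (H9Misc.HypCoh.finrank_zero (k := k) (shortExact_kernel g) hG hG').trans ?_
    rw [d, finrank_top]
  have e2 : Module.finrank k (Coh.HH X B 0) + Module.finrank k (Coh.HH X (kernel r) 0) =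
      Module.finrank k (Coh.HH X A 0) + Module.finrank k (Coh.HH X (kernel r) 1) := by
    have d : LinearMap.range (PnCoh.Finite.deltaLin k (shortExact_kernel r) 0) = ⊤ := top_le_iff.1 fun y _ => by
      rw [← CurveCohLib.ker_mapLin_f_succ k (shortExact_kernel r) 0]
      exact LinearMap.mem_ker.2 (Subsingleton.elim (α := Coh.HH X A 1) _ _)
    refine (H9Misc.HypCoh.finrank_zero (k := k) (shortExact_kernel r) hA hB).trans ?_
    rw [d, finrank_top]
  haveI := CurveCohLib.finite_HH (k := k) hB 0
  haveI := CurveCohLib.finite_HH (k := k) hG' 0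
  have heq : Module.finrank k (Coh.HH X (kernel p') 0) = Module.finrank k (Coh.HH X B 0) := by
    have h0 := finrank_congr k e 0
    have h1' := finrank_congr k e 1
    have hG0 := finrank_kernel k p hp0
    omega
  have hsur : Function.Surjective (mapLin k (kernel.ι p') 0) :=
    (LinearMap.injective_iff_surjective_of_finrank_eq_finrank heq).1
      (injective_mapLin_kernel k p')
  refine LinearMap.ext fun t => ?_
  obtain ⟨t', rfl⟩ := hsur t
  rw [FFun.mapLin_comp, kernel.condition, CurveDuality.mapLin_zero]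
  rfl

include h1 hL in
/-- A point on one component only carries no class. -/
theorem no_class {U T' : Set X} (hU : U ⊆ gen X) {A B C : X.Modules} (hA : Coh.IsCoh A) (hB : Coh.IsCoh B)
    (hC : Coh.IsCoh C)
    (hB1 : Subsingleton (Coh.HH X B 1)) (r : A ⟶ B) [Epi r] (p : A ⟶ C) [Epi p]
    (hp0 : mapLin k p 0 = 0) {η : X}
    (hR : R k 1 (kernel p) (gen X \ {η}) = ⊥) (hz : ∀ z ∈ gen X, z ∉ U → z ∉ CohB1.support A)
    (hinj : ∀ z ∈ U, z ≠ η → Function.Injective (sm r z))
    (hC0 : ∀ z ∈ T', ∀ a : (DerSch.stalkFunctor X z).obj C, a = 0)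
    (hB0 : ∀ z, z ∉ T' → ∀ b : (DerSch.stalkFunctor X z).obj B, b = 0) :
    Subsingleton (Coh.HH X C 0) := by
  let g := kernel.ι p ≫ r
  have hSES := shortExact_kernel p
  haveI : Epi g := epi_of_sm _ fun z b => by
    by_cases hz' : z ∈ T'
    · obtain ⟨a, rfl⟩ := surjective_sm r z b
      obtain ⟨c, hcc⟩ := ((ShortComplex.moduleCat_exact_iff _).1 (hSES.exact.map (DerSch.stalkFunctor X z))) a
        (hC0 z hz' _)
      exact ⟨c, (sm_comp _ _ _ c).trans (congrArg (sm r z) hcc)⟩
    · exact ⟨0, (map_zero (sm g z)).trans (hB0 z hz' b).symm⟩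
  have hG : Coh.IsCoh (kernel p) := QCoh.isCoh_kernel hA hC p
  have hy := hfull_aux k h1 hL hU hG hR hB g
    (fun z hz' hzU h => hz z hz' hzU (support_subset_of_mono (kernel.ι p) h))
    (fun z hzU hzη a b hab => by
      rw [sm_comp, sm_comp] at hab
      exact injective_sm (kernel.ι p) z (hinj z hzU hzη hab))
  have hG1 : Subsingleton (Coh.HH X (kernel p) 1) := subsingleton_of_forall_eq 0 fun y => by
    have hm : y ∈ LinearMap.ker (mapLin k g 1) := LinearMap.mem_ker.2 (hB1.elim _ _)
    rw [CurveCohLib.ker_mapLin_g k (shortExact_kernel g) 1] at hm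
    obtain ⟨w, rfl⟩ := hm
    exact hy w
  refine subsingleton_of_forall_eq 0 fun y => ?_
  obtain ⟨t, rfl⟩ := PnCoh.Finite.exists_of_deltaLin_eq_zero k hSES 0
    (show PnCoh.Finite.deltaLin k hSES 0 y = 0 from hG1.elim _ _)
  exact LinearMap.congr_fun hp0 t

set_option maxHeartbeats 2000000 in
include h1 hngen hL hdeg in
/-- Some section is nonzero at the point. -/
theorem exists_section {x : X} (hx : IsClosed ({x} : Set X)) (n : ℕ) : ∀ U : Set X, U ⊆ gen X → U.ncard ≤ n →
    ∀ (hxT : x ∈ clo U) (p : Q L (clo U) isClosed_closure ⟶ Q L {x} hx),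
      qQ L (clo U) isClosed_closure ≫ p = qQ L {x} hx → mapLin k p 0 ≠ 0 := by
  have hfin := finite_gen k (X := X)
  have hxg : x ∉ gen X := fun h => hngen x h hx
  induction n with
  | zero =>
    intro U hU hn hxT
    obtain rfl := (Set.ncard_eq_zero (hfin.subset hU)).1 (Nat.le_zero.1 hn)
    simp [clo] at hxT
  | succ n ih =>
    intro U hU hn hxT p hp hp0
    have hUf := hfin.subset hU
    let T := clo U
    have hTc : IsClosed T := isClosed_closure
    let S := Q L {x} hx
    haveI hpe : Epi p := by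
      haveI : Epi (qQ L T hTc ≫ p) := hp.symm ▸ epi_qQ {x} hx
      exact epi_of_epi (qQ L T hTc) p
    have hSc := isCoh_Q hL {x} hx
    have hTcoh := isCoh_Q hL T hTc
    haveI := CurveCohLib.finite_HH (k := k) hTcoh 0
    -- the point carries a class
    have hSne : ¬ Subsingleton (Coh.HH X S 0) := fun h => by
      haveI := h
      have hcl : ∀ z ∈ CohB1.support S, closure {z} = ({z} : Set X) := fun z hz => by
        obtain rfl : z = x := by_contra fun hne => notMem_support_Q hL hx hne hz
        exact hx.closure_eq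
      have hgood := Euler.good_of_support hSc hcl
      obtain ⟨-, hz⟩ := Euler.euler_nonneg_of_good k hSc hgood
      have hzero : IsZero S := hz (by
        rw [Euler.euler_eq_sum k S 1 hgood.1, Finset.sum_range_one,
          Module.finrank_zero_of_subsingleton (R := k) (M := Coh.HH X S 0)]
        simp)
      haveI : Subsingleton (S.presheaf.stalk x) :=
        ModuleCat.subsingleton_of_isZero (Functor.map_isZero (DerSch.stalkFunctor X x) hzero)
      obtain ⟨e⟩ := exists_stalk_equiv hL (P {x} hx) x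
      obtain ⟨y, hy⟩ := (range_subschι ({x} : Set X) hx).symm.subset (Set.mem_singleton x)
      haveI := isLocallyNoetherian_subsch ({x} : Set X) hx
      haveI := isReduced_subsch ({x} : Set X) hx
      obtain ⟨ys, hys, hyss⟩ := NormAmpleX.exists_generic_specializes y
      have hyy : VecSt.subschι X {x} hx ys = x :=
        (range_subschι ({x} : Set X) hx).subset (Set.mem_range_self ys)
      have hm := mem_support_push (VecSt.subschι X {x} hx)
        (mem_support_of_rkOne (isRkOne_structure (X := VecSt.subsch X {x} hx)) hys)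
      rw [hyy] at hm
      exact hm e.symm.toEquiv.subsingleton
    by_cases hc : _root_.IsPreconnected T
    swap
    · obtain ⟨U₁, U₂, h₁, h₂, hun, hd, -, -⟩ := exists_split hUf hc
      wlog hx1 : x ∈ clo U₁ generalizing U₁ U₂
      · refine this U₂ U₁ h₂ h₁ (by rw [Set.union_comm]; exact hun) hd.symm ?_
        have h : x ∈ clo U₁ ∪ clo U₂ := by rw [← closure_union, hun]; exact hxT
        exact h.resolve_left hx1
      obtain ⟨rA, ha, _⟩ := exists_restrict (L := L) (S := clo U₁) isClosed_closure hTc (closure_mono h₁.1)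
      obtain ⟨rB, hb, _⟩ := exists_restrict (L := L) (S := clo U₂) isClosed_closure hTc (closure_mono h₂.1)
      obtain ⟨p₁, hp₁, _⟩ := exists_restrict (L := L) (S := {x}) hx (isClosed_closure (s := U₁))
        (Set.singleton_subset_iff.2 hx1)
      haveI := isIso_cross hL hTc isClosed_closure isClosed_closure (closure_mono h₂.1) (closure_mono h₁.1)
        (by rw [← closure_union, Set.union_comm, hun]) hd.symm (hcomp_clo hUf hU) hb ha
      refine ih U₁ (h₁.1.trans hU) (by have := Set.ncard_lt_ncard h₁ hUf; omega) hx1 p₁ hp₁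
        (LinearMap.ext fun t => ?_)
      have hfac : rA ≫ p₁ = p := by
        rw [← cancel_epi (qQ L T hTc), ← Category.assoc (qQ L T hTc) rA p₁, ha, hp₁, hp]
      have hlift : mapLin k (kernel.ι rB ≫ rA) 0 (mapLin k (inv (kernel.ι rB ≫ rA)) 0 t) = t := by
        rw [FFun.mapLin_comp, IsIso.inv_hom_id, CurveDuality.mapLin_id]
      rw [← hlift, ← FFun.mapLin_comp (A := k) (kernel.ι rB) rA, FFun.mapLin_comp (A := k) rA p₁, hfac, hp0]
      rfl
    have hne : U.Nonempty := by
      obtain ⟨η, hη, -⟩ := exists_gen_clo hUf hxT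
      exact ⟨η, hη⟩
    let G := kernel p
    have hGc : Coh.IsCoh G := QCoh.isCoh_kernel hTcoh hSc p
    have hSES := shortExact_kernel p
    have hall := finrank_kernel k p hp0
    have hzG : ∀ z ∈ gen X, z ∉ U → z ∉ CohB1.support G := fun z hz hzU h =>
      notMem_support_Q hL hTc (fun hh => hzU (gen_mem_clo hUf hU hz hh)) (support_subset_of_mono (kernel.ι p) h)
    have hfull : ∀ η ∈ U, R k 1 G (gen X \ {η}) ≠ ⊥ := fun η hη hR => by
      let T' := clo (U \ {η})
      have hT'c : IsClosed T' := isClosed_closure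
      have hsub : T' ⊆ T := closure_mono Set.sdiff_subset
      have hlt : U \ {η} ⊂ U := ⟨Set.sdiff_subset, fun h => (h hη).2 rfl⟩
      have hQ'c := isCoh_Q hL T' hT'c
      haveI hH1T' := subsingleton_H1_Q k h1 hL hdeg _ (U \ {η}) (hlt.1.trans hU) le_rfl
      obtain ⟨r, hr, hre⟩ := exists_restrict (L := L) (S := T') hT'c hTc hsub
      by_cases hxT' : x ∈ T'
      · obtain ⟨p', hp', hp'e⟩ := exists_restrict (L := L) (S := {x}) hx hT'c (Set.singleton_subset_iff.2 hxT')
        exact ih (U \ {η}) (hlt.1.trans hU) (by have := Set.ncard_lt_ncard hlt hUf; omega) hxT' p' hp'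
          (section_descends k h1 hL hU hTcoh hQ'c hSc (subsingleton_H1_Q k h1 hL hdeg _ U hU le_rfl) r p p'
            (by rw [← cancel_epi (qQ L T hTc), ← Category.assoc (qQ L T hTc) r p', hr, hp', hp]) hp0 hR
            (fun z hz hzU => notMem_support_Q hL hTc fun hh => hzU (gen_mem_clo hUf hU hz hh))
            (fun z hz hzη => injective_restrict hL hT'c hTc hsub hr (hU hz) (subset_closure ⟨hz, hzη⟩)))
      · exact hSne (no_class k h1 hL hU hTcoh hQ'c hSc hH1T' r p hp0 hR
          (fun z hz hzU => notMem_support_Q hL hTc fun hh => hzU (gen_mem_clo hUf hU hz hh))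
          (fun z hz hzη => injective_restrict hL hT'c hTc hsub hr (hU hz) (subset_closure ⟨hz, hzη⟩))
          (fun z hzT' a => eq_zero_of_notMem (notMem_support_Q hL hx fun h => hxT' ((Set.mem_singleton_iff.1 h) ▸ hzT')) a)
          (fun z hz b => eq_zero_of_notMem (notMem_support_Q hL hT'c hz) b))
    have hgsurj : ∀ η ∈ gen X, Function.Surjective (sm (kernel.ι p) η) := fun η hη a => by
      exact ((ShortComplex.moduleCat_exact_iff _).1 (hSES.exact.map (DerSch.stalkFunctor X η))) a
        (eq_zero_of_notMem (notMem_support_Q hL hx fun h => hxg ((Set.mem_singleton_iff.1 h) ▸ hη)) _)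
    have hb := (finrank_h0_le k h1 hGc (hrk_of_restrict hL hTc (kernel.ι p) hgsurj)
      (cuts_of_restrict hL hfin hGc hTc (kernel.ι p)) (cuts_structure hfin)
      (htf_of_restrict hL hTc (hcomp_clo hUf hU) (kernel.ι p)) hU hfull hzG).trans (finrank_ann_le k h1 hU)
    rw [hall] at hb
    exact absurd hb (not_le.2 (lt_h0 k h1 hL hdeg hU hne hc))

include k h1 hngen hL hdeg in
/-- Global generation. -/
theorem isGloballyGenerated : Curv2.IsGloballyGenerated L := by
  refine InvX.isGloballyGenerated_of_generated (AVAmple.generatedBy_of_locus (fun s : Γ(L, ⊤) => s) fun z => ?_)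
  haveI : CompactSpace X := inferInstance
  obtain ⟨x, hzx, hx⟩ := (isClosed_closure (s := {z})).exists_closed_singleton ⟨z, subset_closure rfl⟩
  obtain ⟨η, hη, hηx⟩ := NormAmpleX.exists_generic_specializes x
  have hxT : x ∈ clo (gen X) := hηx.mem_closed isClosed_closure (subset_closure hη)
  obtain ⟨p, hp, _⟩ := exists_restrict (L := L) (S := {x}) hx (isClosed_closure (s := gen X))
    (Set.singleton_subset_iff.2 hxT)
  have hne := exists_section k h1 hngen hL hdeg hx _ (gen X) subset_rfl le_rfl hxT p hp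
  obtain ⟨t, ht⟩ : ∃ t, mapLin k p 0 t ≠ 0 := by
    by_contra h
    push Not at h
    exact hne (LinearMap.ext h)
  have hTc : IsClosed (clo (gen X)) := isClosed_closure
  haveI hK : Subsingleton (Coh.HH X (kernel (qQ L (clo (gen X)) hTc)) 1) :=
    subsingleton_HH_of_gen k h1 (QCoh.isCoh_kernel (CurveDeg.isCoh_of_isInvertible hL) (isCoh_Q hL _ hTc) _)
      (fun ζ hζ => subsingleton_kernel _ ζ (bijective_qQ hL hTc hζ (subset_closure hζ)).1) 0
  obtain ⟨t₀, rfl⟩ : ∃ t₀, mapLin k (qQ L (clo (gen X)) hTc) 0 t₀ = t :=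
    PnCoh.Finite.exists_of_deltaLin_eq_zero k (shortExact_kernel (qQ L (clo (gen X)) hTc)) 0
      (hK.elim _ _)
  rw [FFun.mapLin_comp, hp] at ht
  let s : Γ(L, ⊤) := Sheaf.H.equiv₀ (Coh.toAb L) isTerminalTop t₀
  refine ⟨s, (specializes_iff_mem_closure.2 hzx).mem_open (H23.TrivBasic.locus s).isOpen
    (mem_locus_of_ne_zero hL hx s fun h0 => ht ?_)⟩
  refine (Sheaf.H.equiv₀ (Coh.toAb (Q L {x} hx)) isTerminalTop).injective ?_
  rw [map_zero]
  exact (Sheaf.H.equiv₀_naturality isTerminalTop ((QCoh.toAbFunctor X).map (qQ L {x} hx)) t₀).symm.trans h0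

end Groth.Agent.TFGG
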