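import Groth.Agent.TFGG.Gen

/-!
# At most `g` sections when every component carries a class
-/

set_option autoImplicit false
set_option linter.style.haveILetI false
set_option linter.unusedSectionVars false
set_option linter.unusedVariables false
set_option backward.isDefEq.respectTransparency false
set_option backward.isDefEq.respectTransparency.types false
set_option maxHeartbeats 1000000
set_option synthInstance.maxHeartbeats 200000

universe u

open CategoryTheory CategoryTheory.Limits AlgebraicGeometry TopologicalSpace Opposite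
open Groth.Agent.PnCoh.Finite (mapLin)

noncomputable section

namespace Groth.Agent.TFGG

open Groth.Agent TFOneX

variable (k : Type u) [Field k] {X : Scheme.{u}} [X.Over (Spec (CommRingCat.of k))]
  [IsProper (X ↘ Spec (CommRingCat.of k))] [AlgebraicGeometry.IsReduced X]

/-- The classes factoring through the given points. -/
def ann (U : Set X) : Submodule k (Module.Dual k (Coh.HH X (Coh.structureModule X) 1)) :=
  (R k 1 (Coh.structureModule X) U).dualAnnihilator

theorem homOfClass_mapLin {K G : X.Modules} (κ : K ⟶ G) (t : Coh.HH X K 0) :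
    CurveSpecial.homOfClass (mapLin k κ 0 t) = CurveSpecial.homOfClass t ≫ κ := by
  refine CurveRR.hom_ext_one ?_
  rw [CurveSpecial.homOfClass_one]
  show _ = κ.app ⊤ ((CurveSpecial.homOfClass t).app ⊤ (H23.Frame.one ⊤))
  rw [CurveSpecial.homOfClass_one]
  exact Sheaf.H.equiv₀_naturality isTerminalTop ((QCoh.toAbFunctor X).map κ) t |>.symm

theorem exists_class {G : X.Modules} (t : Coh.HH X G 0) :
    ∃ e : Coh.HH X (Coh.structureModule X) 0, mapLin k (CurveSpecial.homOfClass t) 0 e = t := by
  refine ⟨(Sheaf.H.equiv₀ (Coh.toAb (Coh.structureModule X)) isTerminalTop).symm (H23.Frame.one ⊤),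
    (Sheaf.H.equiv₀ (Coh.toAb G) isTerminalTop).injective ?_⟩
  refine (Sheaf.H.equiv₀_naturality isTerminalTop
    ((QCoh.toAbFunctor X).map (CurveSpecial.homOfClass t)) _).symm.trans ?_
  refine (congrArg ((CurveSpecial.homOfClass t).app ⊤) (AddEquiv.apply_symm_apply _ _)).trans ?_
  exact CurveSpecial.homOfClass_one t

variable (h1 : topologicalKrullDim X ≤ 1)

include h1 in
/-- The sections vanishing at the given points. -/
theorem mem_R_zero_iff {G : X.Modules} {W : Set X} (t : Coh.HH X G 0) :
    t ∈ R k 0 G W ↔ Van (CurveSpecial.homOfClass t) W := by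
  haveI := CurveCohLib.isNoetherian_of_proper (k := k) (X := X)
  refine ⟨fun ht => ?_, fun h => ?_⟩
  · let P : Submodule k (Coh.HH X G 0) :=
      { carrier := {t | Van (CurveSpecial.homOfClass t) W}
        add_mem' := fun {a b} ha hb η hη c => by
          rw [CurveSpecial.homOfClass_add, sm_add, ha η hη, hb η hη, add_zero]
        zero_mem' := fun η hη c => by
          rw [show CurveSpecial.homOfClass (0 : Coh.HH X G 0) = 0 from by
            have := CurveSpecial.homOfClass_add (0 : Coh.HH X G 0) 0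
            rw [add_zero] at this
            exact left_eq_add.mp this, sm_zero]
        smul_mem' := fun a t ht => by
          show Van _ _
          rw [CurveSpecial.homOfClass_smul (k := k)]
          exact ht.comp _ }
    refine (R_le k (P := P) fun K κ hK hv => ?_) ht
    rintro _ ⟨x, rfl⟩
    show Van _ _
    rw [homOfClass_mapLin]
    exact hv.precomp _
  · exact le_R k QCoh.isCoh_structureModule' h (exists_class k t)

include h1 in
theorem ann_inter (hc : Cuts (Coh.structureModule X)) {U V : Set X} (hU : U ⊆ gen X) (hV : V ⊆ gen X) :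
    ann k U ⊓ ann k V ≤ ann k (U ∩ V) := by
  haveI := CurveCohLib.isNoetherian_of_proper (k := k) (X := X)
  unfold ann
  rw [← Submodule.dualAnnihilator_sup_eq]
  exact Submodule.dualAnnihilator_anti (R_inter k h1 QCoh.isCoh_structureModule' hc hU hV)

theorem ann_empty : ann k (∅ : Set X) = ⊥ := by
  haveI := CurveCohLib.isNoetherian_of_proper (k := k) (X := X)
  rw [ann, R_empty k QCoh.isCoh_structureModule', Submodule.dualAnnihilator_top]

theorem ann_mono {U V : Set X} (h : U ⊆ V) : ann k U ≤ ann k V :=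
  Submodule.dualAnnihilator_anti (R_anti k h)

variable {G : X.Modules} (hG : Coh.IsCoh G) (hrk : ∀ η ∈ gen X, η ∈ CohB1.support G →
    Nonempty (G.presheaf.stalk η ≃ₗ[X.presheaf.stalk η] X.presheaf.stalk η)) (hc : Cuts G)
  (hcO : Cuts (Coh.structureModule X))
  (htf : ∀ s : Coh.structureModule X ⟶ G, Van s (gen X) → s = 0)
  {U : Set X} (hUg : U ⊆ gen X) (hfull : ∀ η ∈ U, R k 1 G (gen X \ {η}) ≠ ⊥)

include h1 hG hrk hc hcO htf hfull in
theorem finrank_le_aux (n : ℕ) : ∀ W : Set X, W ⊆ gen X → gen X \ U ⊆ W → (gen X \ W).ncard ≤ n →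
    Module.finrank k (R k 0 G W) ≤ Module.finrank k (ann k (gen X \ W)) := by
  haveI := CurveCohLib.isNoetherian_of_proper (k := k) (X := X)
  haveI := CurveCohLib.finite_HH (k := k) (QCoh.isCoh_structureModule' (X := X)) 1
  haveI := CurveCohLib.finite_HH (k := k) hG 0
  have hfinGen := finite_gen k (X := X)
  induction n with
  | zero =>
    intro W hW hUW hn
    have h0 : gen X \ W = ∅ := (Set.ncard_eq_zero (hfinGen.subset Set.sdiff_subset)).1 (Nat.le_zero.1 hn)
    have : R k 0 G W = ⊥ := eq_bot_iff.2 fun t ht => by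
      by_contra hne
      exact CurveSpecial.homOfClass_ne_zero hne (htf _ fun η hη =>
        (mem_R_zero_iff k h1 t).1 ht η (by_contra fun h => Set.eq_empty_iff_forall_notMem.1 h0 η ⟨hη, h⟩))
    rw [this]
    simp
  | succ n ih =>
    intro W hW hUW hn
    by_cases h0 : gen X \ W = ∅
    · exact ih W hW hUW (by rw [h0, Set.ncard_empty]; exact Nat.zero_le _)
    obtain ⟨η, hη⟩ := Set.nonempty_iff_ne_empty.2 h0
    obtain ⟨x, hx, hx0⟩ := Submodule.exists_mem_ne_zero_of_ne_bot (hfull η (by_contra fun h => hη.2 (hUW ⟨hη.1, h⟩)))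
    obtain ⟨φ, hφ⟩ : ∃ φ : Module.Dual k (Coh.HH X G 1), φ x ≠ 0 := by
      by_contra h
      push Not at h
      haveI : Module.Free k (Coh.HH X G 1) := Module.Free.of_divisionRing k _
      exact hx0 ((Module.forall_dual_apply_eq_zero_iff k x).1 h)
    -- the support of the functional
    let S : Set (Set X) := {U | U ⊆ gen X ∧ R k 1 G U ≤ LinearMap.ker φ}
    have hSfin : S.Finite := hfinGen.finite_subsets.subset fun U hU => hU.1
    obtain ⟨Y, hY, hYmin⟩ := hSfin.exists_minimal
      ⟨gen X, subset_rfl, (R_gen k h1 hG).le.trans bot_le⟩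
    have hleast : ∀ V ∈ S, Y ⊆ V := fun V hV => by
      have hm : Y ∩ V ∈ S := ⟨Set.inter_subset_left.trans hY.1,
        (R_inter k h1 hG hc hY.1 hV.1).trans (sup_le hY.2 hV.2)⟩
      exact (hYmin hm Set.inter_subset_left).trans Set.inter_subset_right
    have hηY : η ∈ Y := by_contra fun h => hφ (hY.2 (R_anti k
      (fun z hz => (⟨hY.1 hz, fun he => h (he ▸ hz)⟩ : z ∈ gen X \ {η})) hx))
    let B : Coh.HH X G 0 →ₗ[k] Module.Dual k (Coh.HH X (Coh.structureModule X) 1) :=
      (LinearMap.llcomp k _ _ _ φ).comp (CurveSpecial.mulLin k G 1)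
    let T := B.comp (R k 0 G W).subtype
    have hrange : LinearMap.range T ≤ ann k ((gen X \ W) ∩ Y) := by
      rintro _ ⟨⟨t, ht⟩, rfl⟩
      refine ann_inter k h1 hcO Set.sdiff_subset hY.1 ⟨?_, ?_⟩ <;>
        refine (Submodule.mem_dualAnnihilator _).2 ?_
      · refine R_le k (P := LinearMap.ker (B t)) fun K κ hK hv => ?_
        rintro _ ⟨y, rfl⟩
        show φ (mapLin k (CurveSpecial.homOfClass t) 1 (mapLin k κ 1 y)) = 0
        rw [FFun.mapLin_comp]
        have hz : mapLin k (κ ≫ CurveSpecial.homOfClass t) 1 y ∈ R k 1 G (gen X) :=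
          le_R k hK (fun z hz c => by
            rw [sm_comp]
            by_cases hzW : z ∈ W
            · exact (mem_R_zero_iff k h1 t).1 ht z hzW _
            · rw [hv z ⟨hz, hzW⟩, map_zero]) ⟨y, rfl⟩
        rw [R_gen k h1 hG, Submodule.mem_bot] at hz
        rw [hz, map_zero]
      · refine R_le k (P := LinearMap.ker (B t)) fun K κ hK hv => ?_
        rintro _ ⟨y, rfl⟩
        show φ (mapLin k (CurveSpecial.homOfClass t) 1 (mapLin k κ 1 y)) = 0
        rw [FFun.mapLin_comp]
        exact hY.2 (le_R k hK (hv.comp _) ⟨y, rfl⟩)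
    have hker : (LinearMap.ker T).map (R k 0 G W).subtype ≤ R k 0 G (W ∪ Y) := by
      rintro _ ⟨⟨t, ht⟩, hTt, rfl⟩
      refine (mem_R_zero_iff k h1 t).2 fun z hz => ?_
      rcases hz with hz | hz
      · exact (mem_R_zero_iff k h1 t).1 ht z hz
      by_contra hne
      let V : Set X := {z ∈ gen X | ∀ a, sm (CurveSpecial.homOfClass t) z a = 0}
      have hsur : ∀ z ∈ gen X, z ∉ V → Function.Surjective (sm (CurveSpecial.homOfClass t) z) := by
        intro z hz hzV b
        obtain ⟨a, ha⟩ : ∃ a, sm (CurveSpecial.homOfClass t) z a ≠ 0 := by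
          by_contra h
          push Not at h
          exact hzV ⟨hz, h⟩
        letI := (NormAmpleX.isField_stalk_of_generic hz).toField
        obtain ⟨e⟩ := hrk z hz (by_contra fun h => ha (eq_zero_of_notMem h _))
        refine ⟨(e b * (e (sm (CurveSpecial.homOfClass t) z a))⁻¹) • a, e.injective ?_⟩
        rw [map_smul, LinearEquiv.map_smul, smul_eq_mul, mul_assoc,
          inv_mul_cancel₀ (fun h => ha (e.map_eq_zero_iff.1 h)), mul_one]
      have hVS : V ∈ S := ⟨fun z hz => hz.1, (R_le_range k h1 _ QCoh.isCoh_structureModule' hG hsur).trans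
        (by rintro _ ⟨y, rfl⟩; exact LinearMap.mem_ker.2 (LinearMap.congr_fun (LinearMap.mem_ker.1 hTt) y))⟩
      exact hne (hleast V hVS hz).2
    have hlt : (gen X \ (W ∪ Y)).ncard ≤ n := by
      have h2 : gen X \ (W ∪ Y) ⊂ gen X \ W := by
        refine ⟨fun z hz => ⟨hz.1, fun h => hz.2 (Or.inl h)⟩, fun h => ?_⟩
        exact (h hη).2 (Or.inr hηY)
      have := Set.ncard_lt_ncard h2 (hfinGen.subset Set.sdiff_subset)
      omega
    have hK := ih (W ∪ Y) (Set.union_subset hW hY.1) (hUW.trans Set.subset_union_left) hlt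
    have h3 : Module.finrank k (LinearMap.ker T) ≤ Module.finrank k (ann k (gen X \ (W ∪ Y))) :=
      ((Submodule.finrank_map_subtype_eq _ _).symm.le.trans (Submodule.finrank_mono hker)).trans hK
    have h4 := T.finrank_range_add_finrank_ker
    have hdis : ann k ((gen X \ W) ∩ Y) ⊓ ann k (gen X \ (W ∪ Y)) = ⊥ := by
      refine eq_bot_iff.2 ((ann_inter k h1 hcO (Set.inter_subset_left.trans Set.sdiff_subset)
        Set.sdiff_subset).trans ?_)
      rw [← ann_empty k (X := X)]
      exact ann_mono k fun z hz => hz.2.2 (Or.inr hz.1.2)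
    have h5 : ann k ((gen X \ W) ∩ Y) ⊔ ann k (gen X \ (W ∪ Y)) ≤ ann k (gen X \ W) :=
      sup_le (ann_mono k Set.inter_subset_left) (ann_mono k fun z hz => ⟨hz.1, fun h => hz.2 (Or.inl h)⟩)
    have h6 := Submodule.finrank_sup_add_finrank_inf_eq (ann k ((gen X \ W) ∩ Y)) (ann k (gen X \ (W ∪ Y)))
    rw [hdis, finrank_bot, add_zero] at h6
    have h7 := Submodule.finrank_mono hrange
    have h8 := Submodule.finrank_mono h5
    omega

include h1 hG hrk hc hcO htf hUg hfull in
/-- At most `g` sections. -/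
theorem finrank_h0_le (hzero : ∀ η ∈ gen X, η ∉ U → η ∉ CohB1.support G) :
    Module.finrank k (Coh.HH X G 0) ≤ Module.finrank k (ann k U) := by
  haveI := CurveCohLib.isNoetherian_of_proper (k := k) (X := X)
  have h := finrank_le_aux k h1 hG hrk hc hcO htf hfull _ (gen X \ U) Set.sdiff_subset subset_rfl le_rfl
  have hall : R k 0 G (gen X \ U) = ⊤ := top_le_iff.1 fun t _ =>
    (mem_R_zero_iff k h1 t).2 fun η hη a => eq_zero_of_notMem (hzero η hη.1 hη.2) _
  rw [hall, finrank_top, sdiff_sdiff_right_self, inf_eq_right.2 (show U ≤ gen X from hUg)] at h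
  exact h

end Groth.Agent.TFGG
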