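import Groth.Agent.TFOneX.Deg
import Groth.Agent.Lib.CurveSpecial
import Groth.Agent.Lib.CurveVanish
import Groth.Agent.RelPC17.DimOne
import Groth.Agent.NefH1.Field

/-!
# Supports of functionals on `H¹` of a reduced curve
-/

set_option autoImplicit false
set_option linter.style.haveILetI false
set_option linter.unusedSectionVars false
set_option backward.isDefEq.respectTransparency false
set_option backward.isDefEq.respectTransparency.types false
set_option maxHeartbeats 1000000

universe u

open CategoryTheory CategoryTheory.Limits AlgebraicGeometry TopologicalSpace Opposite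
open Groth.Agent.PnCoh.Finite (mapLin)

noncomputable section

namespace Groth.Agent.TFGG

open Groth.Agent TFOneX

variable (k : Type u) [Field k] {X : Scheme.{u}} [X.Over (Spec (CommRingCat.of k))]
  [IsProper (X ↘ Spec (CommRingCat.of k))] [AlgebraicGeometry.IsReduced X]

/-- The generic points. -/
abbrev gen (X : Scheme.{u}) : Set X := genericPoints (X : Type u)

/-- A map vanishing at the given points. -/
def Van {K G : X.Modules} (κ : K ⟶ G) (U : Set X) : Prop := ∀ η ∈ U, ∀ a, sm κ η a = 0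

theorem Van.comp {K G H : X.Modules} {κ : K ⟶ G} {U : Set X} (h : Van κ U) (g : G ⟶ H) : Van (κ ≫ g) U :=
  fun η hη a => by rw [sm_comp, h η hη a, map_zero]

theorem Van.precomp {K G H : X.Modules} {κ : K ⟶ G} {U : Set X} (h : Van κ U) (g : H ⟶ K) : Van (g ≫ κ) U :=
  fun η hη a => by rw [sm_comp, h η hη]

include k in
theorem finite_gen : (gen X).Finite := by
  haveI := CurveCohLib.isNoetherian_of_proper (k := k) (X := X)
  refine Set.Finite.of_finite_image (f := fun η => closure ({η} : Set X))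
    (NoetherianSpace.finite_irreducibleComponents.subset ?_) fun a _ b _ hab => ?_
  · rintro _ ⟨η, hη, rfl⟩
    exact hη
  · have hab' : closure ({a} : Set X) = closure {b} := hab
    exact (isGenericPoint_closure (x := a)).eq (hab' ▸ isGenericPoint_closure (x := b))

variable (h1 : topologicalKrullDim X ≤ 1)

include k h1 in
/-- A coherent module vanishing at the generic points has no higher cohomology. -/
theorem subsingleton_HH_of_gen {M : X.Modules} (hM : Coh.IsCoh M)
    (h : ∀ η ∈ gen X, η ∉ CohB1.support M) (n : ℕ) : Subsingleton (Coh.HH X M (n + 1)) := by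
  haveI := CurveCohLib.isNoetherian_of_proper (k := k) (X := X)
  exact (Euler.good_of_support hM fun x hx =>
    (isClosed_singleton_of_notMem h1 fun hg => h x hg hx).closure_eq).1 (n + 1) (by omega)

include k h1 in
/-- A map surjective at the generic points is surjective on `H¹`. -/
theorem surjective_H1 {A B : X.Modules} (f : A ⟶ B) (hA : Coh.IsCoh A) (hB : Coh.IsCoh B)
    (h : ∀ η ∈ gen X, Function.Surjective (sm f η)) : Function.Surjective (mapLin k f 1) := by
  haveI := CurveCohLib.isNoetherian_of_proper (k := k) (X := X)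
  let q := cokernel.π f
  have hQ : Coh.IsCoh (cokernel f) := QCoh.isCoh_cokernel hA.1 hB f
  have hK : Coh.IsCoh (kernel q) := QCoh.isCoh_kernel hB hQ q
  let l := kernel.lift q f (cokernel.condition f)
  haveI : Epi l := (ShortComplex.exact_iff_epi_kernel_lift (ShortComplex.mk f q (cokernel.condition f))).1
    (ShortComplex.exact_of_g_is_cokernel _ (cokernelIsCokernel f))
  have hS : (ShortComplex.mk (kernel.ι q) q (kernel.condition q)).ShortExact :=
    { exact := ShortComplex.exact_of_f_is_kernel _ (kernelIsKernel q) }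
  haveI := subsingleton_HH_of_gen k h1 hQ (fun η hη => notMem_support_iff.2 <|
    subsingleton_of_forall_eq 0 fun b => by
      obtain ⟨a, rfl⟩ := surjective_sm q η b
      obtain ⟨c, rfl⟩ := h η hη a
      show sm q η (sm f η c) = 0
      rw [← sm_comp, cokernel.condition, sm_zero]) 0
  intro y
  have hy : y ∈ LinearMap.range (mapLin k (kernel.ι q) 1) := by
    rw [Euler.range_mapLin_f k hS 1]
    exact LinearMap.mem_ker.2 (Subsingleton.elim (α := Coh.HH X (cokernel f) 1) _ _)
  obtain ⟨z, rfl⟩ := hy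
  obtain ⟨w, rfl⟩ := RelPC17.DimOne.hmap_surjective (X ↘ Spec (CommRingCat.of k))
    (NefH1.fibre_dim k h1) l hA.1 hK.1 z
  refine ⟨w, ?_⟩
  show mapLin k f 1 w = mapLin k (kernel.ι q) 1 (mapLin k l 1 w)
  rw [FFun.mapLin_comp, kernel.lift_ι]

/-- The classes coming from the submodules vanishing at the given points. -/
def R (n : ℕ) (G : X.Modules) (U : Set X) : Submodule k (Coh.HH X G n) :=
  ⨆ (K : X.Modules) (κ : K ⟶ G) (_ : Coh.IsCoh K) (_ : Van κ U), LinearMap.range (mapLin k κ n)

theorem le_R {n : ℕ} {K G : X.Modules} {κ : K ⟶ G} {U : Set X} (hK : Coh.IsCoh K) (h : Van κ U) :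
    LinearMap.range (mapLin k κ n) ≤ R k n G U :=
  le_iSup_of_le K (le_iSup_of_le κ (le_iSup_of_le hK (le_iSup_of_le h le_rfl)))

theorem R_le {n : ℕ} {G : X.Modules} {U : Set X} {P : Submodule k (Coh.HH X G n)}
    (h : ∀ (K : X.Modules) (κ : K ⟶ G), Coh.IsCoh K → Van κ U → LinearMap.range (mapLin k κ n) ≤ P) :
    R k n G U ≤ P :=
  iSup_le fun K => iSup_le fun κ => iSup_le fun hK => iSup_le fun hv => h K κ hK hv

theorem R_anti {n : ℕ} {G : X.Modules} {U V : Set X} (h : U ⊆ V) : R k n G V ≤ R k n G U :=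
  R_le k fun _ _ hK hv => le_R k hK fun η hη => hv η (h hη)

theorem R_empty {n : ℕ} {G : X.Modules} (hG : Coh.IsCoh G) : R k n G (∅ : Set X) = ⊤ :=
  top_le_iff.1 fun x _ => le_R k (κ := 𝟙 G) hG (fun η hη => hη.elim) ⟨x, CurveDuality.mapLin_id k G n x⟩

include k h1 in
/-- Submodules full off the given points exhaust the classes. -/
theorem R_le_range {A G : X.Modules} (f : A ⟶ G) (hA : Coh.IsCoh A) (hG : Coh.IsCoh G) {U : Set X}
    (h : ∀ η ∈ gen X, η ∉ U → Function.Surjective (sm f η)) :
    R k 1 G U ≤ LinearMap.range (mapLin k f 1) := R_le k fun K κ hK hv => by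
  haveI := CurveCohLib.isNoetherian_of_proper (k := k) (X := X)
  let q := cokernel.π f
  have hQ : Coh.IsCoh (cokernel f) := QCoh.isCoh_cokernel hA.1 hG f
  let ι := kernel.ι (κ ≫ q)
  have hK' : Coh.IsCoh (kernel (κ ≫ q)) := QCoh.isCoh_kernel hK hQ _
  have hι : ∀ η ∈ gen X, Function.Surjective (sm ι η) := fun η hη a => by
    have h0 : sm (κ ≫ q) η a = 0 := by
      rw [sm_comp]
      by_cases hU : η ∈ U
      · rw [hv η hU, map_zero]
      · obtain ⟨c, hc⟩ := h η hη hU (sm κ η a)
        rw [← hc]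
        show sm q η (sm f η c) = 0
        rw [← sm_comp, cokernel.condition, sm_zero]
    exact ((ShortComplex.moduleCat_exact_iff _).1
      ((ShortComplex.exact_of_f_is_kernel (ShortComplex.mk ι (κ ≫ q) (kernel.condition _))
        (kernelIsKernel _)).map (DerSch.stalkFunctor X η))) a h0
  let l := kernel.lift q f (cokernel.condition f)
  haveI : Epi l := (ShortComplex.exact_iff_epi_kernel_lift (ShortComplex.mk f q (cokernel.condition f))).1
    (ShortComplex.exact_of_g_is_cokernel _ (cokernelIsCokernel f))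
  let m := kernel.lift q (ι ≫ κ) (by rw [Category.assoc]; exact kernel.condition _)
  rintro _ ⟨x, rfl⟩
  obtain ⟨y, rfl⟩ := surjective_H1 k h1 ι hK' hK hι x
  obtain ⟨w, hw⟩ := RelPC17.DimOne.hmap_surjective (X ↘ Spec (CommRingCat.of k))
    (NefH1.fibre_dim k h1) l hA.1 (QCoh.isQCoh_kernel hG.1 hQ.1 q) (mapLin k m 1 y)
  have hw' : mapLin k l 1 w = mapLin k m 1 y := hw
  refine ⟨w, ?_⟩
  rw [FFun.mapLin_comp]
  calc mapLin k f 1 w = mapLin k (kernel.ι q) 1 (mapLin k l 1 w) := by
        rw [FFun.mapLin_comp]; exact FFun.mapLin_congr (kernel.lift_ι _ _ _).symm 1 w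
    _ = mapLin k (kernel.ι q) 1 (mapLin k m 1 y) := congrArg _ hw'
    _ = mapLin k (ι ≫ κ) 1 y := by
        rw [FFun.mapLin_comp]; exact FFun.mapLin_congr (kernel.lift_ι _ _ _) 1 y

/-- There are submodules with prescribed zero generic stalks. -/
def Cuts (G : X.Modules) : Prop := ∀ U : Set X, U ⊆ gen X → ∃ (A : X.Modules) (a : A ⟶ G),
  Coh.IsCoh A ∧ Van a U ∧ ∀ η ∈ gen X, η ∉ U → Function.Surjective (sm a η)

include k h1 in
theorem R_inter {G : X.Modules} (hG : Coh.IsCoh G) (hc : Cuts G) {U V : Set X} (hU : U ⊆ gen X)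
    (hV : V ⊆ gen X) : R k 1 G (U ∩ V) ≤ R k 1 G U ⊔ R k 1 G V := by
  obtain ⟨A, a, hA, ha, has⟩ := hc U hU
  obtain ⟨B, b, hB, hb, hbs⟩ := hc V hV
  refine (R_le_range k h1 (biprod.desc a b) (KZ.isCoh_biprod hA hB) hG fun η hη hUV y => ?_).trans ?_
  · by_cases h : η ∈ U
    · obtain ⟨c, rfl⟩ := hbs η hη (fun hv => hUV ⟨h, hv⟩) y
      exact ⟨sm biprod.inr η c, by rw [← sm_comp, biprod.inr_desc]⟩
    · obtain ⟨c, rfl⟩ := has η hη h y
      exact ⟨sm biprod.inl η c, by rw [← sm_comp, biprod.inl_desc]⟩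
  · rintro _ ⟨x, rfl⟩
    have hx : x = mapLin k (biprod.fst ≫ biprod.inl) 1 x + mapLin k (biprod.snd ≫ biprod.inr : A ⊞ B ⟶ A ⊞ B) 1 x := by
      rw [← CurveDuality.mapLin_add, biprod.total, CurveDuality.mapLin_id]
    rw [hx, map_add, FFun.mapLin_comp, FFun.mapLin_comp, Category.assoc, Category.assoc, biprod.inl_desc,
      biprod.inr_desc, ← FFun.mapLin_comp (A := k), ← FFun.mapLin_comp (A := k)]
    exact Submodule.add_mem_sup (le_R k hA ha ⟨_, rfl⟩) (le_R k hB hb ⟨_, rfl⟩)

include k h1 in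
theorem R_gen {G : X.Modules} (hG : Coh.IsCoh G) : R k 1 G (gen X) = ⊥ := by
  haveI := CurveCohLib.isNoetherian_of_proper (k := k) (X := X)
  refine le_bot_iff.1 (R_le k fun K κ hK hv => ?_)
  rintro _ ⟨x, rfl⟩
  let q := cokernel.π κ
  have hQ : Coh.IsCoh (cokernel κ) := QCoh.isCoh_cokernel hK.1 hG κ
  let l := kernel.lift q κ (cokernel.condition κ)
  haveI := subsingleton_HH_of_gen k h1 (QCoh.isCoh_kernel hG hQ q) (fun η hη => notMem_support_iff.2 <|
    subsingleton_of_forall_eq 0 fun b => by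
      haveI : Epi l := (ShortComplex.exact_iff_epi_kernel_lift (ShortComplex.mk κ q (cokernel.condition κ))).1
        (ShortComplex.exact_of_g_is_cokernel _ (cokernelIsCokernel κ))
      obtain ⟨c, rfl⟩ := surjective_sm l η b
      refine injective_sm (kernel.ι q) η ?_
      rw [← sm_comp, kernel.lift_ι, hv η hη, map_zero]) 0
  show mapLin k κ 1 x = 0
  rw [← kernel.lift_ι q κ (cokernel.condition κ), ← FFun.mapLin_comp (A := k),
    show mapLin k l 1 x = 0 from Subsingleton.elim (α := Coh.HH X (kernel q) 1) _ _, map_zero]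

end Groth.Agent.TFGG
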