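import Groth.Agent.TFGG.Bound
import Groth.Agent.KFlatLib.Scheme.TensorStalk
import Groth.Agent.InvX.GenLocus
import Groth.Agent.H23.InvStalk

/-!
# Restrictions of an invertible module to unions of components
-/

set_option autoImplicit false
set_option linter.style.haveILetI false
set_option linter.unusedSectionVars false
set_option linter.unusedVariables false
set_option backward.isDefEq.respectTransparency false
set_option backward.isDefEq.respectTransparency.types false
set_option maxHeartbeats 1000000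
set_option synthInstance.maxHeartbeats 200000

universe u

open CategoryTheory CategoryTheory.Limits AlgebraicGeometry TopologicalSpace Opposite MonoidalCategory
open Groth.Agent.PnCoh.Finite (mapLin)

noncomputable section

namespace Groth.Agent.TFGG

open Groth.Agent TFOneX

variable {X : Scheme.{u}}

/-- The structure sheaf of the reduced subscheme on a closed set. -/
abbrev P (T : Set X) (hT : IsClosed T) : X.Modules :=
  (Coh.push (VecSt.subschι X T hT)).obj (Coh.structureModule (VecSt.subsch X T hT))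

/-- The restriction map. -/
abbrev uP (T : Set X) (hT : IsClosed T) : Coh.structureModule X ⟶ P T hT :=
  ClSub.unitToPush (VecSt.subschι X T hT)

variable (L : X.Modules)

/-- The restriction of `L`. -/
abbrev Q (T : Set X) (hT : IsClosed T) : X.Modules := (DCoh.tensorBi.obj L).obj (P T hT)

/-- The restriction map of `L`. -/
abbrev qQ (T : Set X) (hT : IsClosed T) : L ⟶ Q L T hT :=
  (KFlatLib.tensorUnitIso L).inv ≫ (DCoh.tensorBi.obj L).map (uP T hT)

variable {L}

instance epi_uP (T : Set X) (hT : IsClosed T) : Epi (uP T hT) := epi_unitToPush _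

instance epi_qQ (T : Set X) (hT : IsClosed T) : Epi (qQ L T hT) := epi_comp _ _

theorem kernel_uP {S T : Set X} (hS : IsClosed S) (hT : IsClosed T) (h : S ⊆ T) :
    kernel.ι (uP T hT) ≫ uP S hS = 0 := by
  obtain ⟨a, ha⟩ := H23.RedSub.exists_lift_closed (VecSt.subschι X S hS) (VecSt.subschι X T hT)
    (by rw [range_subschι, range_subschι]; exact h)
  refine QCoh.hom_eq_zero_of_affine _ fun W _ t => ?_
  let r : Γ(X, W) := (kernel.ι (uP T hT)).app W t
  show (VecSt.subschι X S hS).app W r = 0
  have h0 : (VecSt.subschι X T hT).app W r = 0 :=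
    congr(($(kernel.condition (uP T hT))).app W t)
  rw [Scheme.Hom.congr_app ha.symm W]
  simp only [Scheme.Hom.comp_app, CommRingCat.comp_apply, h0, map_zero]

theorem exists_restrict {S T : Set X} (hS : IsClosed S) (hT : IsClosed T) (h : S ⊆ T) :
    ∃ r : Q L T hT ⟶ Q L S hS, qQ L T hT ≫ r = qQ L S hS ∧ Epi r := by
  let r := (DCoh.tensorBi.obj L).map (Abelian.epiDesc (uP T hT) (uP S hS) (kernel_uP hS hT h))
  have hr : qQ L T hT ≫ r = qQ L S hS := by
    simp only [r, qQ, Category.assoc, ← Functor.map_comp, Abelian.comp_epiDesc]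
  haveI : Epi (qQ L T hT ≫ r) := hr.symm ▸ epi_qQ S hS
  exact ⟨r, hr, epi_of_epi (qQ L T hT) r⟩

variable [IsNoetherian X]

theorem isCoh_P (T : Set X) (hT : IsClosed T) : Coh.IsCoh (P T hT) := isCoh_pushStructure T hT

variable (hL : PicF.IsInvertible L)
include hL

theorem isCoh_Q (T : Set X) (hT : IsClosed T) : Coh.IsCoh (Q L T hT) :=
  ParShLib.isCoh_tensorMod (CurveDeg.isCoh_of_isInvertible hL) (isCoh_P T hT)

theorem exists_stalk_equiv (M : X.Modules) (x : X) :
    Nonempty ((((DCoh.tensorBi.obj L).obj M).presheaf.stalk x : Type u) ≃ₗ[X.presheaf.stalk x]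
      (M.presheaf.stalk x : Type u)) := by
  obtain ⟨e⟩ := H23.InvStalk.exists_stalk_equiv hL x
  exact ⟨(KFlatLib.stalkTensorIso x L M).toLinearEquiv.symm.trans
    ((TensorProduct.congr e (LinearEquiv.refl _ _)).trans (TensorProduct.lid _ _))⟩

theorem notMem_support_Q {T : Set X} (hT : IsClosed T) {x : X} (hx : x ∉ T) :
    x ∉ CohB1.support (Q L T hT) := by
  obtain ⟨e⟩ := exists_stalk_equiv hL (P T hT) x
  haveI := notMem_support_iff.1 (notMem_support_push (X := X) hT
    (I := Coh.structureModule (VecSt.subsch X T hT))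
    (by haveI := isLocallyNoetherian_subsch T hT; exact QCoh.isCoh_structureModule') hx)
  exact notMem_support_iff.2 e.toEquiv.subsingleton

omit hL in
theorem mem_support_P [AlgebraicGeometry.IsReduced X] {T : Set X} (hT : IsClosed T) {η : X}
    (hη : η ∈ gen X) (h : η ∈ T) : η ∈ CohB1.support (P T hT) := by
  obtain ⟨y, hy, rfl⟩ := exists_generic_over hT hη h
  haveI := isLocallyNoetherian_subsch T hT
  haveI := isReduced_subsch T hT
  exact mem_support_push _ (mem_support_of_rkOne isRkOne_structure hy)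

theorem mem_support_Q [AlgebraicGeometry.IsReduced X] {T : Set X} (hT : IsClosed T) {η : X}
    (hη : η ∈ gen X) (h : η ∈ T) : η ∈ CohB1.support (Q L T hT) := fun hs => by
  obtain ⟨e⟩ := exists_stalk_equiv hL (P T hT) η
  haveI : Subsingleton ((Q L T hT).presheaf.stalk η) := hs
  exact mem_support_P hT hη h e.symm.toEquiv.subsingleton

theorem isRkOne : TFOne.IsRkOne X L := fun x _ => H23.InvStalk.exists_stalk_equiv hL x

variable [AlgebraicGeometry.IsReduced X]

theorem bijective_qQ {T : Set X} (hT : IsClosed T) {η : X} (hη : η ∈ gen X) (h : η ∈ T) :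
    Function.Bijective (sm (qQ L T hT) η) :=
  bijective_at (isRkOne hL) _ hη (mem_support_Q hL hT hη h)

/-- Restrictions to smaller sets are injective at the generic points there. -/
theorem injective_restrict {S T : Set X} (hS : IsClosed S) (hT : IsClosed T) (h : S ⊆ T)
    {r : Q L T hT ⟶ Q L S hS} (hr : qQ L T hT ≫ r = qQ L S hS) {η : X} (hη : η ∈ gen X) (hηS : η ∈ S) :
    Function.Injective (sm r η) :=
  (bijective_desc (isRkOne hL) hr hη (mem_support_Q hL hT hη (h hηS)) (mem_support_Q hL hS hη hηS)).1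

omit hL in
theorem isTorsionFree_P {T : Set X} (hT : IsClosed T)
    (hcomp : ∀ x ∈ T, ∃ η ∈ gen X, η ∈ T ∧ η ⤳ x) : TorSh.IsTorsionFree (P T hT) := by
  obtain ⟨G, π, hG⟩ := exists_quotOn QCoh.isCoh_structureModule' isTorsionFree_structure
    isRkOne_structure hT hcomp
  obtain ⟨hp, hc, htf, hs⟩ := hG
  haveI := hp
  -- the quotient maps to the restriction
  have hk : kernel.ι (uP T hT) ≫ π = 0 := hom_eq_zero hc.1 htf _ fun η hη hsη a => by
    have hb := bijective_at isRkOne_structure (uP T hT) hη (mem_support_P hT hη (hs ▸ hsη))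
    have h0 : sm (kernel.ι (uP T hT)) η a = 0 := hb.1 (by
      rw [← sm_comp, kernel.condition, sm_zero, map_zero])
    rw [sm_comp, h0, map_zero]
  let g := Abelian.epiDesc (uP T hT) π hk
  let ι := VecSt.subschι X T hT
  haveI := isReduced_subsch T hT
  have hk' : kernel.ι π ≫ uP T hT = 0 := by
    refine QCoh.hom_eq_zero_of_affine _ fun W _ t => ?_
    let r : Γ(X, W) := (kernel.ι π).app W t
    show ι.app W r = 0
    refine NormAmpleX.eq_zero_of_germ_generic _ fun y hy hyW => ?_
    obtain ⟨η', hη', hη'T, hsp⟩ := hcomp (ι y) ((range_subschι T hT).subset (Set.mem_range_self y))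
    obtain ⟨y', hy', hyη⟩ := exists_generic_over hT hη' hη'T
    have hyy : y' = y := NormAmpleX.eq_of_specializes_generic hy
      (ι.isClosedEmbedding.isInducing.specializes_iff.1 (hyη.symm ▸ hsp))
    subst hyy
    have hbi := bijective_at isRkOne_structure π hη' (hs.symm ▸ hη'T)
    have hηW : ι y' ∈ W := hyW
    subst hyη
    have h0 : (Coh.structureModule X).presheaf.germ W (ι y') hηW ((kernel.ι π).app W t) = 0 := by
      refine hbi.1 ?_
      rw [map_zero, ← DerSch.stalkFunctor_map_germ (ι y') (kernel.ι π) W hηW t, ← sm_comp, kernel.condition,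
        sm_zero]
    obtain ⟨V, hV, j, j', hz⟩ := TopCat.Presheaf.germ_eq _ (ι y') hηW hηW _ _ (h0.trans (map_zero _).symm)
    rw [map_zero] at hz
    have hz' : X.presheaf.map j.op r = 0 := hz
    have hg : X.presheaf.germ W (ι y') hηW r = 0 := by
      rw [← X.presheaf.germ_res_apply j (ι y') hV r, hz', map_zero]
    rw [← ι.germ_stalkMap_apply W y' hηW r, hg, map_zero]
  let g' := Abelian.epiDesc π (uP T hT) hk'
  have hgg : g ≫ g' = 𝟙 _ := by
    rw [← cancel_epi (uP T hT)]
    simp only [g, g', Abelian.comp_epiDesc_assoc, Abelian.comp_epiDesc, Category.comp_id]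
  intro x
  have hinj : Function.Injective (sm g x) := fun a b hab => by
    have := congrArg (sm g' x) hab
    rwa [← sm_comp, ← sm_comp, hgg, sm_id, sm_id] at this
  haveI h1 : Module.IsTorsionFree (X.presheaf.stalk x) ((DerSch.stalkFunctor X x).obj G) := htf x
  exact Function.Injective.moduleIsTorsionFree (sm g x) hinj fun r m => map_smul _ r m

theorem isTorsionFree_Q {T : Set X} (hT : IsClosed T)
    (hcomp : ∀ x ∈ T, ∃ η ∈ gen X, η ∈ T ∧ η ⤳ x) : TorSh.IsTorsionFree (Q L T hT) := fun x => by
  obtain ⟨e⟩ := exists_stalk_equiv hL (P T hT) x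
  haveI := isTorsionFree_P hT hcomp x
  exact Function.Injective.moduleIsTorsionFree e e.injective fun r m => e.map_smul r m

omit hL in
/-- A module mapping injectively at the given generic points to one vanishing elsewhere has cuts. -/
theorem cut_of_map {G M : X.Modules} (hG : Coh.IsCoh G) (hM : Coh.IsCoh M) (q : G ⟶ M) {U : Set X}
    (hinj : ∀ η ∈ U, Function.Injective (sm q η))
    (hz : ∀ η ∈ gen X, η ∉ U → η ∉ CohB1.support M) :
    Coh.IsCoh (kernel q) ∧ Van (kernel.ι q) U ∧
      ∀ η ∈ gen X, η ∉ U → Function.Surjective (sm (kernel.ι q) η) := by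
  refine ⟨QCoh.isCoh_kernel hG hM q, fun η hη a => hinj η hη (by
    rw [← sm_comp, kernel.condition, sm_zero, map_zero]), fun η hη hU b => ?_⟩
  exact ((ShortComplex.moduleCat_exact_iff _).1
    ((ShortComplex.exact_of_f_is_kernel (ShortComplex.mk (kernel.ι q) q (kernel.condition q))
      (kernelIsKernel _)).map (DerSch.stalkFunctor X η))) b (eq_zero_of_notMem (hz η hη hU) _)

omit hL in
theorem eq_of_specializes_gen {a b : X} (ha : a ∈ gen X) (hb : b ∈ gen X) (h : a ⤳ b) : a = b :=
  NormAmpleX.eq_of_specializes_generic hb h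

/-- The closed set of the given points. -/
abbrev clo (U : Set X) : Set X := closure U

omit hL in
theorem exists_gen_clo {U : Set X} (hUf : U.Finite) {x : X} (hx : x ∈ clo U) : ∃ η ∈ U, η ⤳ x := by
  have h : x ∈ ⋃ η ∈ U, closure ({η} : Set X) := by
    rw [← hUf.closure_biUnion, Set.biUnion_of_singleton]
    exact hx
  obtain ⟨η, hη, hx⟩ := Set.mem_iUnion₂.1 h
  exact ⟨η, hη, specializes_iff_mem_closure.2 hx⟩

omit hL in
theorem gen_mem_clo {U : Set X} (hUf : U.Finite) (hU : U ⊆ gen X) {η : X} (hη : η ∈ gen X)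
    (h : η ∈ clo U) : η ∈ U := by
  obtain ⟨ζ, hζ, hs⟩ := exists_gen_clo hUf h
  exact eq_of_specializes_gen (hU hζ) hη hs ▸ hζ

omit hL in
theorem hcomp_clo {U : Set X} (hUf : U.Finite) (hU : U ⊆ gen X) :
    ∀ x ∈ clo U, ∃ η ∈ gen X, η ∈ clo U ∧ η ⤳ x := fun x hx =>
  let ⟨η, hη, hs⟩ := exists_gen_clo hUf hx
  ⟨η, hU hη, subset_closure hη, hs⟩

omit hL in
theorem cuts_structure (hfin : (gen X).Finite) : Cuts (Coh.structureModule X) := fun U hU => by
  have h := cut_of_map QCoh.isCoh_structureModule' (isCoh_P (clo U) isClosed_closure)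
    (uP (clo U) isClosed_closure) (U := U)
    (fun η hη => (bijective_at isRkOne_structure _ (hU hη)
      (mem_support_P isClosed_closure (hU hη) (subset_closure hη))).1)
    fun η hη hn => notMem_support_push isClosed_closure
      (by haveI := isLocallyNoetherian_subsch (clo U) isClosed_closure; exact QCoh.isCoh_structureModule')
      fun hc => hn (gen_mem_clo (hfin.subset hU) hU hη hc)
  exact ⟨_, _, h⟩

theorem cuts_of_restrict (hfin : (gen X).Finite) {G : X.Modules} (hG : Coh.IsCoh G) {T : Set X}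
    (hT : IsClosed T) (g : G ⟶ Q L T hT) [Mono g] : Cuts G := fun U hU => by
  let S := clo (U ∩ T)
  have hST : S ⊆ T := closure_minimal Set.inter_subset_right hT
  obtain ⟨r, hr, -⟩ := exists_restrict (L := L) (S := S) isClosed_closure hT hST
  have h := cut_of_map hG (isCoh_Q hL S isClosed_closure) (g ≫ r) (U := U)
    (fun η hη a b hab => by
      by_cases hηT : η ∈ T
      · rw [sm_comp, sm_comp] at hab
        exact injective_sm g η (injective_restrict hL isClosed_closure hT hST hr (hU hη)
          (subset_closure ⟨hη, hηT⟩) hab)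
      · exact injective_sm g η ((eq_zero_of_notMem (notMem_support_Q hL hT hηT) _).trans
          (eq_zero_of_notMem (notMem_support_Q hL hT hηT) _).symm))
    fun η hη hn => notMem_support_Q hL isClosed_closure fun hc =>
      hn (gen_mem_clo (hfin.subset (Set.inter_subset_left.trans hU)) (Set.inter_subset_left.trans hU) hη hc).1
  exact ⟨_, _, h⟩

theorem htf_of_restrict {T : Set X} (hT : IsClosed T) (hcomp : ∀ x ∈ T, ∃ η ∈ gen X, η ∈ T ∧ η ⤳ x)
    {G : X.Modules} (g : G ⟶ Q L T hT) [Mono g] (s : Coh.structureModule X ⟶ G) (h : Van s (gen X)) :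
    s = 0 := by
  rw [← cancel_mono g, zero_comp]
  exact hom_eq_zero (isCoh_Q hL T hT).1 (isTorsionFree_Q hL hT hcomp) _ fun η hη _ a => h.comp g η hη a

theorem hrk_of_restrict {T : Set X} (hT : IsClosed T) {G : X.Modules} (g : G ⟶ Q L T hT) [Mono g]
    (hg : ∀ η ∈ gen X, Function.Surjective (sm g η)) (η : X) (hη : η ∈ gen X)
    (hs : η ∈ CohB1.support G) :
    Nonempty (G.presheaf.stalk η ≃ₗ[X.presheaf.stalk η] X.presheaf.stalk η) := by
  have hs' := support_subset_of_mono g hs
  have hηT : η ∈ T := by_contra fun h => notMem_support_Q hL hT h hs'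
  obtain ⟨e⟩ := H23.InvStalk.exists_stalk_equiv hL η
  exact ⟨(LinearEquiv.ofBijective (sm g η) ⟨injective_sm g η, hg η hη⟩).trans
    ((LinearEquiv.ofBijective (sm (qQ L T hT) η) (bijective_qQ hL hT hη hηT)).symm.trans e)⟩

/-- The restriction to a point detects frames. -/
theorem mem_locus_of_ne_zero {x : X} (hx : IsClosed ({x} : Set X)) (s : Γ(L, ⊤))
    (h : (qQ L {x} hx).app ⊤ s ≠ 0) : x ∈ H23.TrivBasic.locus s := by
  by_contra hl
  refine h (TopCat.Presheaf.section_ext ⟨(Q L {x} hx).presheaf, (Q L {x} hx).isSheaf⟩ _ _ _ fun z hz => ?_)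
  show (Q L {x} hx).presheaf.germ ⊤ z hz _ = (Q L {x} hx).presheaf.germ ⊤ z hz 0
  rw [map_zero]
  by_cases hzx : z = x
  swap
  · exact eq_zero_of_notMem (notMem_support_Q hL hx hzx) _
  subst hzx
  obtain ⟨U, hxU, e, he⟩ := InvX.exists_frame hL z
  obtain ⟨g, hg⟩ := he.exists_coord le_rfl (AModX.res L (le_top : U ≤ ⊤) (InvX.one (InvX.ofSect s)))
  rw [AModX.res_self] at hg
  have hgm : z ∉ X.basicOpen g := fun hb => hl (by
    rw [← InvX.genLocus_inf (InvX.ofSect s) he hg] at hb
    exact hb.1)
  rw [InvX.one_ofSect] at hg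
  refine ((DerSch.stalkFunctor_map_germ z (qQ L {z} hx) ⊤ hz s).symm).trans ?_
  have h1 : L.presheaf.germ ⊤ z hz s = X.presheaf.germ U z hxU g • L.presheaf.germ U z hxU e := by
    have := congrArg (L.presheaf.germ U z hxU) hg
    erw [QCoh.germ_smul' L hxU, InvX.germ_res'] at this
    exact this
  show sm (qQ L {z} hx) z _ = 0
  rw [h1]
  refine ((sm (qQ L {z} hx) z).map_smul _ _).trans ?_
  obtain ⟨ε⟩ := exists_stalk_equiv hL (P {z} hx) z
  refine ε.injective ?_
  rw [LinearEquiv.map_smul, map_zero]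
  obtain ⟨c, hc⟩ := surjective_sm (uP {z} hx) z (ε (sm (qQ L {z} hx) z (L.presheaf.germ U z hxU e)))
  rw [← hc]
  refine ((sm (uP {z} hx) z).map_smul _ _).symm.trans ?_
  obtain ⟨V, hzV, c', rfl⟩ := (Coh.structureModule X).presheaf.germ_exist c
  let W := U ⊓ V
  let m : Γ(X, W) := X.presheaf.map (homOfLE inf_le_left).op g * X.presheaf.map (homOfLE inf_le_right).op (show Γ(X, V) from c')
  have hm : X.presheaf.germ U z hxU g • (Coh.structureModule X).presheaf.germ V z hzV c' =
      (Coh.structureModule X).presheaf.germ W z ⟨hxU, hzV⟩ (show Γ(Coh.structureModule X, W) from m) := by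
    rw [← X.presheaf.germ_res_apply (homOfLE inf_le_left : W ⟶ U) z ⟨hxU, hzV⟩ g,
      ← (Coh.structureModule X).presheaf.germ_res_apply (homOfLE inf_le_right : W ⟶ V) z ⟨hxU, hzV⟩ c']
    erw [← QCoh.germ_smul' (Coh.structureModule X) (show z ∈ W from ⟨hxU, hzV⟩)]
    rfl
  rw [hm]
  refine (DerSch.stalkFunctor_map_germ z (uP {z} hx) W ⟨hxU, hzV⟩ _).trans ?_
  have h0 : (VecSt.subschι X {z} hx).app W m = 0 := by
    haveI := isReduced_subsch ({z} : Set X) hx
    rw [← basicOpen_eq_bot_iff, eq_bot_iff, ← Scheme.preimage_basicOpen]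
    intro y hy
    have hy' : VecSt.subschι X {z} hx y = z := (range_subschι {z} hx).subset (Set.mem_range_self y)
    have hz' : z ∈ X.basicOpen m := hy' ▸ hy
    rw [Scheme.basicOpen_mul] at hz'
    have := hz'.1
    rw [Scheme.basicOpen_res] at this
    exact (hgm this.2).elim
  rw [show (uP {z} hx).app W (show Γ(Coh.structureModule X, W) from m) = 0 from h0, map_zero]

end Groth.Agent.TFGG
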